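import Mathlib
import Groth.Prelude.Def_ClSub2
import Groth.Prelude.Def_Curv2
import Groth.Agent.Lib.QCoh.Helper18_StalkLinear
import Groth.Agent.Lib.QCoh.Helper18_StructureAss
import Groth.Agent.Lib.QCoh.Helper50_Pushforward
import Groth.Agent.Lib.QCoh.Helper50_AffineDict
import Groth.Agent.Lib.QCoh.Helper50_FinitePush

set_option autoImplicit false
set_option linter.style.haveILetI false
set_option linter.unusedSectionVars false
universe u

open CategoryTheory CategoryTheory.Limits AlgebraicGeometry Opposite TopologicalSpace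

namespace Groth.Agent.Lib.Helper39.NormCok

open Groth.Agent.Lib.QCoh

section KA

variable {R : Type*} [CommRing R] (p : Ideal R) [p.IsPrime]
  {A : Type*} [CommRing A] [Algebra R A] [IsLocalization.AtPrime A p]
  {N : Type*} [AddCommGroup N] [Module R N]
  {Fx : Type*} [AddCommGroup Fx] [Module R Fx] [Module A Fx] [IsScalarTower R A Fx]
  {A' : Type*} [CommRing A'] [Algebra A A'] [Module R A'] [IsScalarTower R A A']
  {M₁ : Type*} [AddCommGroup M₁] [Module A M₁]

theorem quotEquiv_of_isLocalizedModule (g : N →ₗ[R] Fx) [IsLocalizedModule p.primeCompl g]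
    (j : N →ₗ[R] A') [IsLocalizedModule p.primeCompl j]
    (ux : M₁ →ₗ[A] Fx) (n₁ : N) (hj : j n₁ = 1)
    (hrange : LinearMap.range ux = Submodule.span A {g n₁}) :
    Nonempty ((Fx ⧸ LinearMap.range ux) ≃ₗ[A] (A' ⧸ LinearMap.range (Algebra.linearMap A A'))) := by
  let ΦR : Fx ≃ₗ[R] A' := IsLocalizedModule.linearEquiv p.primeCompl g j
  let Φ : Fx ≃ₗ[A] A' := ΦR.extendScalarsOfIsLocalization p.primeCompl A
  have hΦ : ∀ n, Φ (g n) = j n := fun n => IsLocalizedModule.linearEquiv_apply p.primeCompl g j n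
  have h1 : LinearMap.range (Algebra.linearMap A A') = Submodule.span A {(1 : A')} := by
    ext y
    rw [Submodule.mem_span_singleton]
    constructor
    · rintro ⟨a, rfl⟩
      exact ⟨a, by rw [Algebra.linearMap_apply, Algebra.algebraMap_eq_smul_one]⟩
    · rintro ⟨a, rfl⟩
      exact ⟨a, by rw [Algebra.linearMap_apply, Algebra.algebraMap_eq_smul_one]⟩
  have hmap : (LinearMap.range ux).map (Φ : Fx →ₗ[A] A') =
      LinearMap.range (Algebra.linearMap A A') := by
    rw [hrange, h1, Submodule.map_span, Set.image_singleton]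
    congr 2
    show Φ (g n₁) = 1
    rw [hΦ, hj]
  exact ⟨Submodule.Quotient.equiv _ _ Φ hmap⟩

end KA

section Sch

variable {X Y : Scheme.{u}} (f : Y ⟶ X)

/-- pushforward of the structure sheaf -/
noncomputable abbrev pushO : X.Modules :=
  (Scheme.Modules.pushforward f).obj (Coh.structureModule Y)

/-- a function viewed as a section of the structure module -/
def oMod {X : Scheme.{u}} {U : X.Opens} (s : Γ(X, U)) : Γ(Coh.structureModule X, U) := s

/-- the stalk of the structure module is generated by the germ of `1`. -/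
theorem exists_smul_germ_one (U : X.Opens) (x : X) (hx : x ∈ U)
    (m : (Coh.structureModule X).presheaf.stalk x) :
    ∃ a : X.presheaf.stalk x, m = a • (Coh.structureModule X).presheaf.germ U x hx
      (oMod (1 : Γ(X, U))) := by
  obtain ⟨W, hxW, s, rfl⟩ := (Coh.structureModule X).presheaf.exists_germ_eq m
  have hxWU : x ∈ W ⊓ U := ⟨hxW, hx⟩
  let s' : Γ(X, W ⊓ U) := X.presheaf.map (homOfLE (inf_le_left : W ⊓ U ≤ W)).op
    (show Γ(X, W) from s)
  refine ⟨X.presheaf.germ (W ⊓ U) x hxWU s', ?_⟩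
  have h1 : (Coh.structureModule X).presheaf.germ W x hxW s =
      (Coh.structureModule X).presheaf.germ (W ⊓ U) x hxWU (oMod s') :=
    (TopCat.Presheaf.germ_res_apply (Coh.structureModule X).presheaf
      (homOfLE (inf_le_left : W ⊓ U ≤ W)) x hxWU s).symm
  have h2 : (Coh.structureModule X).presheaf.germ U x hx (oMod (1 : Γ(X, U))) =
      (Coh.structureModule X).presheaf.germ (W ⊓ U) x hxWU (oMod (1 : Γ(X, W ⊓ U))) := by
    rw [← TopCat.Presheaf.germ_res_apply (Coh.structureModule X).presheaf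
      (homOfLE (inf_le_right : W ⊓ U ≤ U)) x hxWU]
    congr 1
    exact map_one (X.presheaf.map (homOfLE (inf_le_right : W ⊓ U ≤ U)).op).hom
  rw [h1, h2]
  have h3 := germ_smul (Coh.structureModule X) x (W ⊓ U) hxWU s' (oMod (1 : Γ(X, W ⊓ U)))
  rw [← h3]
  congr 1
  show s' = s' * 1
  rw [mul_one]

theorem cokernel_stalk_equiv [IsAffineHom f] [Mono (ClSub.unitToPush f)]
    (U : X.Opens) (hU : IsAffineOpen U) (x : X) (hx : x ∈ U)
    (A' : Type u) [CommRing A'] [Algebra (X.presheaf.stalk x) A']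
    (j : Γ(Y, f ⁻¹ᵁ U) →+* A')
    (hj : ∀ r : Γ(X, U), j ((f.app U).hom r) =
      algebraMap (X.presheaf.stalk x) A' ((X.presheaf.germ U x hx).hom r))
    (hsurj : ∀ y : A', ∃ (n : Γ(Y, f ⁻¹ᵁ U)) (s : Γ(X, U)),
      s ∉ (hU.primeIdealOf ⟨x, hx⟩).asIdeal ∧
        algebraMap (X.presheaf.stalk x) A' ((X.presheaf.germ U x hx).hom s) * y = j n)
    (heq : ∀ n₁ n₂ : Γ(Y, f ⁻¹ᵁ U), j n₁ = j n₂ → ∃ s : Γ(X, U),
      s ∉ (hU.primeIdealOf ⟨x, hx⟩).asIdeal ∧ (f.app U).hom s * n₁ = (f.app U).hom s * n₂) :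
    Nonempty ((cokernel (ClSub.unitToPush f)).presheaf.stalk x ≃ₗ[X.presheaf.stalk x]
      (A' ⧸ LinearMap.range (Algebra.linearMap (X.presheaf.stalk x) A'))) := by
  have hqc : (pushO f).IsQuasicoherent := by
    haveI := isQuasicoherent_structureModule' Y
    exact isQuasicoherent_pushforward_of_isAffineHom f _
  letI algR : Algebra Γ(X, U) (X.presheaf.stalk x) := X.presheaf.algebra_section_stalk ⟨x, hx⟩
  haveI hloc := hU.isLocalization_stalk ⟨x, hx⟩
  letI modF := stalkModuleOfOpen (pushO f) U x hx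
  haveI : IsScalarTower Γ(X, U) (X.presheaf.stalk x) ((pushO f).presheaf.stalk x) :=
    ⟨fun r a m => by
      show ((X.presheaf.germ U x hx).hom r * a) • m = (X.presheaf.germ U x hx).hom r • (a • m)
      rw [mul_smul]⟩
  letI modA' : Module Γ(X, U) A' := Module.compHom A' (X.presheaf.germ U x hx).hom
  haveI : IsScalarTower Γ(X, U) (X.presheaf.stalk x) A' :=
    ⟨fun r a m => by
      show ((X.presheaf.germ U x hx).hom r * a) • m = (X.presheaf.germ U x hx).hom r • (a • m)
      rw [mul_smul]⟩
  let jₗ : Γ(pushO f, U) →ₗ[Γ(X, U)] A' :=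
    { toFun := fun s => j s
      map_add' := fun a b => map_add j a b
      map_smul' := fun r s => by
        show j ((f.app U).hom r * (show Γ(Y, f ⁻¹ᵁ U) from s)) =
          (X.presheaf.germ U x hx).hom r • j s
        rw [map_mul, hj, Algebra.smul_def] }
  haveI hlocj : IsLocalizedModule (hU.primeIdealOf ⟨x, hx⟩).asIdeal.primeCompl jₗ := by
    refine ⟨?_, ?_, ?_⟩
    · rintro ⟨r, hr⟩
      have hr' : IsUnit ((X.presheaf.germ U x hx).hom r) :=
        IsLocalization.map_units (X.presheaf.stalk x)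
          (⟨r, hr⟩ : (hU.primeIdealOf ⟨x, hx⟩).asIdeal.primeCompl)
      rw [Module.End.isUnit_iff]
      constructor
      · intro a b hab
        have hab' : (X.presheaf.germ U x hx).hom r • a = (X.presheaf.germ U x hx).hom r • b := hab
        exact hr'.smul_left_cancel.1 hab'
      · obtain ⟨v, hv⟩ := hr'
        intro b
        refine ⟨(↑v⁻¹ : X.presheaf.stalk x) • b, ?_⟩
        change (X.presheaf.germ U x hx).hom r • ((↑v⁻¹ : X.presheaf.stalk x) • b) = b
        rw [← hv, smul_smul, Units.mul_inv, one_smul]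
    · intro y
      obtain ⟨n, s, hs, hy⟩ := hsurj y
      refine ⟨(n, ⟨s, hs⟩), ?_⟩
      change (X.presheaf.germ U x hx).hom s • y = j n
      rw [Algebra.smul_def, hy]
    · intro n₁ n₂ h12
      obtain ⟨s, hs, hn⟩ := heq n₁ n₂ h12
      exact ⟨⟨s, hs⟩, hn⟩
  haveI hlocg := isLocalizedModule_germ (pushO f) hU x hx
  -- the short exact sequence
  let S : ShortComplex X.Modules :=
    ShortComplex.mk (ClSub.unitToPush f) (cokernel.π (ClSub.unitToPush f))
      (cokernel.condition (ClSub.unitToPush f))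
  have hS : S.ShortExact :=
    { exact := ShortComplex.exact_cokernel (ClSub.unitToPush f)
      mono_f := inferInstanceAs (Mono (ClSub.unitToPush f))
      epi_g := inferInstanceAs (Epi (cokernel.π (ClSub.unitToPush f))) }
  obtain ⟨-, hsurjg, hex⟩ := stalk_exact_of_shortExact S hS x
  let ux := stalkMapₗ (ClSub.unitToPush f) x
  let gx := stalkMapₗ (cokernel.π (ClSub.unitToPush f)) x
  have hker : LinearMap.ker gx = LinearMap.range ux := by
    ext m
    constructor
    · intro hm
      obtain ⟨m₁, hm₁⟩ := hex m hm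
      exact ⟨m₁, hm₁⟩
    · rintro ⟨m₁, rfl⟩
      show stalkMap (cokernel.π (ClSub.unitToPush f)) x (stalkMap (ClSub.unitToPush f) x m₁) = 0
      have h1 : (stalkFunctor X x).map (ClSub.unitToPush f) ≫
          (stalkFunctor X x).map (cokernel.π (ClSub.unitToPush f)) = 0 := by
        rw [← Functor.map_comp, cokernel.condition, Functor.map_zero]
      have h2 := congr($h1 m₁)
      exact h2
  have hsurjg' : Function.Surjective gx := hsurjg
  let E1 : (((pushO f).presheaf.stalk x) ⧸ LinearMap.range ux) ≃ₗ[X.presheaf.stalk x]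
      (cokernel (ClSub.unitToPush f)).presheaf.stalk x :=
    (Submodule.quotEquivOfEq _ _ hker.symm).trans (gx.quotKerEquivOfSurjective hsurjg')
  have hrange : LinearMap.range ux = Submodule.span (X.presheaf.stalk x)
      {germₗ (pushO f) U x hx (show Γ(pushO f, U) from (1 : Γ(Y, f ⁻¹ᵁ U)))} := by
    apply le_antisymm
    · rintro _ ⟨m, rfl⟩
      obtain ⟨a, rfl⟩ := exists_smul_germ_one U x hx m
      rw [map_smul]
      apply Submodule.smul_mem
      apply Submodule.subset_span
      show stalkMap (ClSub.unitToPush f) x _ = _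
      rw [stalkMap_germ]
      show _ = (pushO f).presheaf.germ U x hx _
      congr 1
      exact map_one (f.app U).hom
    · rw [Submodule.span_le, Set.singleton_subset_iff]
      refine ⟨(Coh.structureModule X).presheaf.germ U x hx (oMod (1 : Γ(X, U))), ?_⟩
      show stalkMap (ClSub.unitToPush f) x _ = _
      rw [stalkMap_germ]
      show _ = (pushO f).presheaf.germ U x hx _
      congr 1
      exact map_one (f.app U).hom
  obtain ⟨E2⟩ := quotEquiv_of_isLocalizedModule (hU.primeIdealOf ⟨x, hx⟩).asIdeal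
    (germₗ (pushO f) U x hx) jₗ ux (show Γ(pushO f, U) from (1 : Γ(Y, f ⁻¹ᵁ U)))
    (map_one j) hrange
  exact ⟨E1.symm.trans E2⟩

end Sch

end Groth.Agent.Lib.Helper39.NormCok
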