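import Mathlib
import Groth.Agent.Lib.Helper39.NormCok.Stalk
import Groth.Agent.Lib.Helper39.BranchFibE
import Groth.Agent.Lib.Helper39.NormCurve
import Groth.Agent.Lib.Helper39.NormDimOneB

/-!
# Normalization of an integral curve: `O_X → ν_* O_{X^ν}` (helper39)

* `mono_unitToPush`, `cokernel_stalk_equiv_normalization` (stalk of the cokernel at `x` is `A'/A`),
* `isField_stalk_of_not_isClosed`, `exists_dense_isIso`.
-/

set_option autoImplicit false
set_option linter.style.haveILetI false
set_option linter.unusedSectionVars false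
universe u

open CategoryTheory CategoryTheory.Limits AlgebraicGeometry Opposite TopologicalSpace

namespace Groth.Agent.Lib.Helper39.NormCok

open Groth.Agent.Lib.QCoh Groth.Agent.Lib.Helper39.BranchFib Groth.Agent.Lib.Helper39

section Norm

variable (X : Scheme.{u}) [IsIntegral X]
  [QuasiCompact (X.fromSpecStalk (genericPoint X))]
  [QuasiSeparated (X.fromSpecStalk (genericPoint X))]

local notation "fξ" => X.fromSpecStalk (genericPoint X)

/-- `O_X → ν_* O_{X^ν}` is a monomorphism. -/
theorem mono_unitToPush : Mono (ClSub.unitToPush (fξ).fromNormalization) := by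
  rw [mono_iff_forall_affine_injective]
  intro U
  by_cases hξ : genericPoint X ∈ (U : X.Opens)
  · have hg' : (fξ) = Spec.map (CommRingCat.ofHom (RingHom.id X.functionField)) ≫ (fξ) := by
      have : CommRingCat.ofHom (RingHom.id X.functionField) = 𝟙 _ := rfl
      rw [this, Spec.map_id, Category.id_comp]
    have h := NormCurve.injective_app_fromNormalization X X.functionField (RingHom.id _) (fξ) hg'
      (U : X.Opens) U.2 hξ
    exact h
  · have hU0 : (U : X.Opens) = ⊥ := NormDimOne.eq_bot_of_genericPoint_notMem X U hξ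
    intro a b _
    have hsub : Subsingleton Γ(X, (U : X.Opens)) := by
      rw [hU0]; infer_instance
    exact hsub.elim (show Γ(X, (U : X.Opens)) from a) (show Γ(X, (U : X.Opens)) from b)

/-- the stalk of the cokernel of `O_X → ν_* O_{X^ν}` at `x` is `A'/A`. -/
theorem cokernel_stalk_equiv_normalization (x : X) :
    Nonempty ((cokernel (ClSub.unitToPush (fξ).fromNormalization)).presheaf.stalk x
      ≃ₗ[X.presheaf.stalk x]
      (integralClosure (X.presheaf.stalk x) (FractionRing (X.presheaf.stalk x)) ⧸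
        LinearMap.range (Algebra.linearMap (X.presheaf.stalk x)
          (integralClosure (X.presheaf.stalk x) (FractionRing (X.presheaf.stalk x)))))) := by
  obtain ⟨_, ⟨U, hU, rfl⟩, hxU, -⟩ := X.isBasis_affineOpens.exists_subset_of_mem_open
    (Set.mem_univ x) isOpen_univ
  have hξ : genericPoint X ∈ U :=
    ((genericPoint_spec X).mem_open_set_iff U.isOpen).mpr ⟨x, trivial, hxU⟩
  have : Nonempty U := ⟨⟨_, hξ⟩⟩
  letI algL := ((fξ).app U).hom.toAlgebra
  have hL := NormDimOne.isField_sections X U hξ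
  have hfr := NormDimOne.isFractionRing_sections X U hU hξ
  letI algR := TopCat.Presheaf.algebra_section_stalk X.presheaf (⟨x, hxU⟩ : U)
  have hloc : IsLocalization.AtPrime (X.presheaf.stalk x) (hU.primeIdealOf ⟨x, hxU⟩).asIdeal :=
    hU.isLocalization_stalk ⟨x, hxU⟩
  let _ := hL.toField
  let e : Γ((fξ).normalization, (fξ).fromNormalization ⁻¹ᵁ U) ≃+*
      integralClosure Γ(X, U) Γ(Spec (X.presheaf.stalk (genericPoint X)), (fξ) ⁻¹ᵁ U) :=
    ((fξ).normalizationObjIso hU).commRingCatIsoToRingEquiv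
  have he : ∀ a, e (((fξ).fromNormalization.app U).hom a) = algebraMap Γ(X, U) _ a := by
    intro a
    rw [Scheme.Hom.fromNormalization_app _ hU]
    show (((fξ).normalizationObjIso hU).inv ≫ ((fξ).normalizationObjIso hU).hom).hom _ = _
    rw [Iso.inv_hom_id]
    rfl
  have hes : ∀ a, e.symm (algebraMap Γ(X, U) _ a) = ((fξ).fromNormalization.app U).hom a :=
    fun a => by rw [← he, e.symm_apply_apply]
  obtain ⟨j₀, hj₀, hjc⟩ := exists_integralClosure_isLocalization Γ(X, U)
    (hU.primeIdealOf ⟨x, hxU⟩).asIdeal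
    Γ(Spec (X.presheaf.stalk (genericPoint X)), (fξ) ⁻¹ᵁ U) (X.presheaf.stalk x)
  letI := j₀.toAlgebra
  haveI := mono_unitToPush X
  refine cokernel_stalk_equiv (fξ).fromNormalization U hU x hxU _
    (j₀.comp (e : _ →+* _)) ?_ ?_ ?_
  · intro r
    rw [RingHom.comp_apply, RingHom.coe_coe, he, hjc]
    rfl
  · intro y
    obtain ⟨⟨b, ⟨_, s, hs, rfl⟩⟩, hbs⟩ := IsLocalization.surj
      (Algebra.algebraMapSubmonoid (integralClosure Γ(X, U)
        Γ(Spec (X.presheaf.stalk (genericPoint X)), (fξ) ⁻¹ᵁ U))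
        (hU.primeIdealOf ⟨x, hxU⟩).asIdeal.primeCompl) y
    refine ⟨e.symm b, s, hs, ?_⟩
    rw [RingHom.comp_apply, RingHom.coe_coe, e.apply_symm_apply]
    have hbs' : y * j₀ (algebraMap Γ(X, U) _ s) = j₀ b := hbs
    rw [← hbs', hjc, mul_comm]
    rfl
  · intro n₁ n₂ h12
    have h12' : j₀ (e n₁) = j₀ (e n₂) := h12
    obtain ⟨⟨_, s, hs, rfl⟩, hc⟩ := IsLocalization.exists_of_eq
      (M := Algebra.algebraMapSubmonoid (integralClosure Γ(X, U)
        Γ(Spec (X.presheaf.stalk (genericPoint X)), (fξ) ⁻¹ᵁ U))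
        (hU.primeIdealOf ⟨x, hxU⟩).asIdeal.primeCompl) h12'
    refine ⟨s, hs, ?_⟩
    have hc' : algebraMap Γ(X, U) _ s * e n₁ = algebraMap Γ(X, U) _ s * e n₂ := hc
    have := congrArg e.symm hc'
    rw [map_mul, map_mul, hes, e.symm_apply_apply, e.symm_apply_apply] at this
    exact this

end Norm

section Fld

variable (X : Scheme.{u}) [IsIntegral X]

theorem isField_stalk_of_not_isClosed (hdim : topologicalKrullDim X ≤ 1) (x : X)
    (hx : ¬ IsClosed ({x} : Set X)) : IsField (X.presheaf.stalk x) := by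
  -- a strict specialization
  have hne : closure ({x} : Set X) ≠ {x} := fun h => hx (h ▸ isClosed_closure)
  obtain ⟨y, hy, hyx⟩ : ∃ y ∈ closure ({x} : Set X), y ≠ x := by
    by_contra hcon
    apply hne
    apply Set.Subset.antisymm
    · intro y hy
      by_contra hyx
      exact hcon ⟨y, hy, hyx⟩
    · exact subset_closure
  have hspec : x ⤳ y := specializes_iff_mem_closure.mpr hy
  obtain ⟨_, ⟨U, hU, rfl⟩, hyU, -⟩ := X.isBasis_affineOpens.exists_subset_of_mem_open
    (Set.mem_univ y) isOpen_univ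
  have hxU : x ∈ U := hspec.mem_open U.isOpen hyU
  have hne : Nonempty U := ⟨⟨x, hxU⟩⟩
  haveI hD : Ring.KrullDimLE 1 Γ(X, U) := NormDimOne.krullDimLE_one_sections X hdim U hU
  letI algR := TopCat.Presheaf.algebra_section_stalk X.presheaf (⟨x, hxU⟩ : U)
  have hloc : IsLocalization.AtPrime (X.presheaf.stalk x) (hU.primeIdealOf ⟨x, hxU⟩).asIdeal :=
    hU.isLocalization_stalk ⟨x, hxU⟩
  -- p_x ≤ p_y
  have hle : hU.primeIdealOf ⟨x, hxU⟩ ≤ hU.primeIdealOf ⟨y, hyU⟩ := by
    rw [PrimeSpectrum.le_iff_specializes]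
    have h1 : (⟨x, hxU⟩ : U) ⤳ ⟨y, hyU⟩ :=
      (Topology.IsInducing.subtypeVal.specializes_iff (x := (⟨x, hxU⟩ : U))
        (y := (⟨y, hyU⟩ : U))).mp hspec
    exact h1.map hU.isoSpec.hom.continuous
  have hneq : hU.primeIdealOf ⟨x, hxU⟩ ≠ hU.primeIdealOf ⟨y, hyU⟩ := by
    intro h
    have h2 := congr(hU.fromSpec $h)
    rw [hU.fromSpec_primeIdealOf, hU.fromSpec_primeIdealOf] at h2
    exact hyx h2.symm
  have hbot : (hU.primeIdealOf ⟨x, hxU⟩).asIdeal = ⊥ := by
    by_contra hb
    have hmax : (hU.primeIdealOf ⟨x, hxU⟩).asIdeal.IsMaximal :=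
      Ideal.IsPrime.isMaximal_of_ne_bot (hU.primeIdealOf ⟨x, hxU⟩).2 hb
    apply hneq
    apply PrimeSpectrum.ext
    exact hmax.eq_of_le (hU.primeIdealOf ⟨y, hyU⟩).2.ne_top hle
  -- so the stalk is the fraction field
  have hfr : IsFractionRing Γ(X, U) (X.presheaf.stalk x) := by
    have h1 : (hU.primeIdealOf ⟨x, hxU⟩).asIdeal.primeCompl = nonZeroDivisors Γ(X, U) := by
      ext a
      rw [Ideal.mem_primeCompl_iff, hbot, mem_nonZeroDivisors_iff_ne_zero, Ideal.mem_bot]
    have h2 : IsLocalization (hU.primeIdealOf ⟨x, hxU⟩).asIdeal.primeCompl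
      (X.presheaf.stalk x) := hloc
    rw [h1] at h2
    exact h2
  exact (IsFractionRing.toField Γ(X, U)).toIsField

end Fld

section Cond

variable {R R' : Type*} [CommRing R] [IsDomain R] [CommRing R'] (g : R →+* R')

/-- a common denominator for a finite birational extension. -/
theorem exists_conductor_elt (hfin : g.Finite)
    (hden : ∀ b : R', ∃ s : R, s ≠ 0 ∧ g s * b ∈ g.range) :
    ∃ f : R, f ≠ 0 ∧ ∀ b : R', g f * b ∈ g.range := by
  classical
  letI := g.toAlgebra
  have hfin' : Module.Finite R R' := hfin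
  obtain ⟨S, hS⟩ := hfin'.fg_top
  choose s hs0 hs using hden
  refine ⟨∏ b ∈ S, s b, Finset.prod_ne_zero_iff.mpr fun b _ => hs0 b, ?_⟩
  intro b
  have hb : b ∈ Submodule.span R (S : Set R') := by rw [hS]; trivial
  induction hb using Submodule.span_induction with
  | mem x hx =>
    rw [← Finset.mul_prod_erase S s hx, map_mul, mul_comm (g (s x)), mul_assoc]
    obtain ⟨a, ha⟩ := hs x
    rw [← ha, ← map_mul]
    exact ⟨_, rfl⟩
  | zero => rw [mul_zero]; exact Subring.zero_mem _
  | add x y _ _ hx hy => rw [mul_add]; exact Subring.add_mem _ hx hy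
  | smul r x _ hx =>
    rw [Algebra.smul_def, ← mul_assoc, mul_comm (g _), mul_assoc]
    exact Subring.mul_mem _ ⟨r, rfl⟩ hx

/-- inverting a conductor element makes the extension trivial. -/
theorem bijective_away_of_conductor (hinj : Function.Injective g) (f : R)
    (hf : ∀ b : R', g f * b ∈ g.range)
    (Rf R'f : Type*) [CommRing Rf] [CommRing R'f] [Algebra R Rf] [Algebra R' R'f]
    [IsLocalization.Away f Rf] [IsLocalization.Away (g f) R'f]
    (gf : Rf →+* R'f) (hgf : ∀ r, gf (algebraMap R Rf r) = algebraMap R' R'f (g r)) :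
    Function.Bijective gf := by
  have hunit : IsUnit (algebraMap R Rf f) := IsLocalization.Away.algebraMap_isUnit f
  have hunit' : IsUnit (algebraMap R' R'f (g f)) := IsLocalization.Away.algebraMap_isUnit (g f)
  constructor
  · rw [injective_iff_map_eq_zero]
    intro z hz
    obtain ⟨n, a, ha⟩ := IsLocalization.Away.surj f z
    have h1 : algebraMap R' R'f (g a) = 0 := by
      rw [← hgf, ← ha, map_mul, hz, zero_mul]
    obtain ⟨⟨_, m, rfl⟩, hc⟩ := (IsLocalization.map_eq_zero_iff (Submonoid.powers (g f)) R'f _).mp h1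
    have h2 : g (f ^ m * a) = 0 := by
      rw [map_mul, map_pow]; exact hc
    have h3 : f ^ m * a = 0 := hinj (h2.trans (map_zero g).symm)
    have h4 : algebraMap R Rf f ^ m * algebraMap R Rf a = 0 := by
      rw [← map_pow, ← map_mul, h3, map_zero]
    have h5 : algebraMap R Rf a = 0 := ((hunit.pow m).mul_right_eq_zero).mp h4
    rw [h5] at ha
    exact ((hunit.pow n).mul_left_eq_zero).mp ha
  · intro y
    obtain ⟨n, b, hb⟩ := IsLocalization.Away.surj (g f) y
    obtain ⟨a, ha⟩ := hf b
    obtain ⟨v, hv⟩ := hunit.pow (n + 1)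
    refine ⟨algebraMap R Rf a * ↑v⁻¹, ?_⟩
    have hv' : gf (↑v⁻¹ : Rf) * algebraMap R' R'f (g f) ^ (n + 1) = 1 := by
      have h0 : algebraMap R' R'f (g f) ^ (n + 1) = gf (algebraMap R Rf f ^ (n + 1)) := by
        rw [map_pow, hgf]
      rw [h0, ← hv, ← map_mul, Units.inv_mul, map_one]
    have h1 : y * algebraMap R' R'f (g f) ^ (n + 1) =
        gf (algebraMap R Rf a * ↑v⁻¹) * algebraMap R' R'f (g f) ^ (n + 1) := by
      rw [map_mul, mul_assoc, hv', mul_one, hgf, ha, map_mul, pow_succ, ← mul_assoc, hb, mul_comm]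
    exact ((hunit'.pow (n + 1)).mul_left_injective h1).symm

end Cond

section Iso

variable {X Y : Scheme.{u}} (ν : Y ⟶ X)

/-- an affine morphism which is bijective on sections over an affine open `U` is an isomorphism
over `U`. -/
theorem isIso_morphismRestrict_of_bijective (U : X.Opens) (hU : IsAffineOpen U)
    (hW : IsAffineOpen (ν ⁻¹ᵁ U)) (hb : Function.Bijective (ν.app U).hom) : IsIso (ν ∣_ U) := by
  haveI : IsAffine U.toScheme := hU
  haveI : IsAffine (ν ⁻¹ᵁ U).toScheme := hW
  have h1 : ∀ W : X.Opens, W = U → IsIso (ν.app W) := by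
    rintro W rfl
    exact (ConcreteCategory.isIso_iff_bijective _).mpr hb
  have h2 : IsIso (ν ∣_ U).appTop := by
    rw [morphismRestrict_appTop]
    have h3 : ∀ (W₁ W₂ : Y.Opens) (h : W₁ = W₂), IsIso (Y.presheaf.map (eqToHom h).op) := by
      intro W₁ W₂ h
      infer_instance
    exact IsIso.comp_isIso' (h1 _ U.ι_image_top) (h3 _ _ _)
  have := @HasAffineProperty.iff_of_isAffine (MorphismProperty.isomorphisms Scheme) _
    AlgebraicGeometry.instHasAffinePropertyIsomorphismsSchemeAndIsAffineIsIsoCommRingCatAppTop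
    _ _ (ν ∣_ U) _
  exact this.mpr ⟨inferInstance, h2⟩

end Iso

section Dense

variable (X : Scheme.{u}) [IsIntegral X]
  [QuasiCompact (X.fromSpecStalk (genericPoint X))]
  [QuasiSeparated (X.fromSpecStalk (genericPoint X))]

local notation "fξ" => X.fromSpecStalk (genericPoint X)

theorem exists_dense_isIso (hfin : IsFinite (fξ).fromNormalization) :
    ∃ U : X.Opens, Dense (U : Set X) ∧ IsIso ((fξ).fromNormalization ∣_ U) := by
  obtain ⟨_, ⟨V, hV, rfl⟩, hξ, -⟩ := X.isBasis_affineOpens.exists_subset_of_mem_open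
    (Set.mem_univ (genericPoint X)) isOpen_univ
  have hξ' : genericPoint X ∈ V := hξ
  have : Nonempty V := ⟨⟨_, hξ'⟩⟩
  have hW : IsAffineOpen ((fξ).fromNormalization ⁻¹ᵁ V) := hV.preimage _
  letI algL := ((fξ).app V).hom.toAlgebra
  have hL := NormDimOne.isField_sections X V hξ'
  have hfr := NormDimOne.isFractionRing_sections X V hV hξ'
  let e : Γ((fξ).normalization, (fξ).fromNormalization ⁻¹ᵁ V) ≃+*
      integralClosure Γ(X, V) Γ(Spec (X.presheaf.stalk (genericPoint X)), (fξ) ⁻¹ᵁ V) :=
    ((fξ).normalizationObjIso hV).commRingCatIsoToRingEquiv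
  have he : ∀ a, e (((fξ).fromNormalization.app V).hom a) = algebraMap Γ(X, V) _ a := by
    intro a
    rw [Scheme.Hom.fromNormalization_app _ hV]
    show (((fξ).normalizationObjIso hV).inv ≫ ((fξ).normalizationObjIso hV).hom).hom _ = _
    rw [Iso.inv_hom_id]
    rfl
  have hes : ∀ a, e.symm (algebraMap Γ(X, V) _ a) = ((fξ).fromNormalization.app V).hom a :=
    fun a => by rw [← he, e.symm_apply_apply]
  have hg' : (fξ) = Spec.map (CommRingCat.ofHom (RingHom.id X.functionField)) ≫ (fξ) := by
    have : CommRingCat.ofHom (RingHom.id X.functionField) = 𝟙 _ := rfl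
    rw [this, Spec.map_id, Category.id_comp]
  have hinj : Function.Injective ((fξ).fromNormalization.app V).hom :=
    NormCurve.injective_app_fromNormalization X X.functionField (RingHom.id _) (fξ) hg' V hV hξ'
  have hgfin : ((fξ).fromNormalization.app V).hom.Finite := hfin.finite_app _ hV
  have hden : ∀ b : Γ((fξ).normalization, (fξ).fromNormalization ⁻¹ᵁ V),
      ∃ s : Γ(X, V), s ≠ 0 ∧ ((fξ).fromNormalization.app V).hom s * b ∈
        ((fξ).fromNormalization.app V).hom.range := by
    intro b
    obtain ⟨⟨a, s⟩, has⟩ := IsLocalization.surj (nonZeroDivisors Γ(X, V))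
      ((e b : integralClosure Γ(X, V) _) :
        Γ(Spec (X.presheaf.stalk (genericPoint X)), (fξ) ⁻¹ᵁ V))
    refine ⟨s, nonZeroDivisors.ne_zero s.2, a, ?_⟩
    have h1 : e b * algebraMap Γ(X, V) _ (s : Γ(X, V)) = algebraMap Γ(X, V) _ a :=
      Subtype.ext has
    have := congrArg e.symm h1
    rw [map_mul, e.symm_apply_apply, hes, hes] at this
    rw [mul_comm, this]
  obtain ⟨f₀, hf₀, hcond⟩ := exists_conductor_elt _ hgfin hden
  refine ⟨X.basicOpen f₀, ?_, ?_⟩
  · apply IsOpen.dense (X.basicOpen f₀).isOpen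
    refine ⟨genericPoint X, ?_⟩
    rw [SetLike.mem_coe, Scheme.mem_basicOpen _ _ _ hξ']
    apply IsUnit.mk0
    intro h0
    apply hf₀
    exact germ_injective_of_isIntegral X _ hξ' (h0.trans (map_zero _).symm)
  · have hpre : (fξ).fromNormalization ⁻¹ᵁ X.basicOpen f₀ =
        (fξ).normalization.basicOpen (((fξ).fromNormalization.app V).hom f₀) :=
      Scheme.preimage_basicOpen _ f₀
    apply isIso_morphismRestrict_of_bijective _ _ (hV.basicOpen f₀)
      ((hV.basicOpen f₀).preimage _)
    haveI := hV.isLocalization_basicOpen f₀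
    haveI := hW.isLocalization_basicOpen (((fξ).fromNormalization.app V).hom f₀)
    have hb := bijective_away_of_conductor ((fξ).fromNormalization.app V).hom hinj f₀ hcond
      Γ(X, X.basicOpen f₀)
      Γ((fξ).normalization, (fξ).normalization.basicOpen (((fξ).fromNormalization.app V).hom f₀))
      ((fξ).fromNormalization.appLE (X.basicOpen f₀)
        ((fξ).normalization.basicOpen (((fξ).fromNormalization.app V).hom f₀))
        (le_of_eq hpre.symm)).hom (by
        intro r
        have h1 := Scheme.Hom.map_appLE (fξ).fromNormalization (le_of_eq hpre.symm)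
          (homOfLE (X.basicOpen_le f₀)).op
        have h2 := Scheme.Hom.appLE_map (fξ).fromNormalization
          (le_refl ((fξ).fromNormalization ⁻¹ᵁ V))
          (homOfLE (((fξ).normalization.basicOpen_le
            (((fξ).fromNormalization.app V).hom f₀)))).op
        have h3 := congr($(h1).hom r)
        have h4 := congr($(h2).hom r)
        rw [← Scheme.Hom.app_eq_appLE] at h4
        exact h3.trans h4.symm)
    -- transfer bijectivity from appLE to app
    have happ : (fξ).fromNormalization.appLE (X.basicOpen f₀)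
        ((fξ).normalization.basicOpen (((fξ).fromNormalization.app V).hom f₀))
        (le_of_eq hpre.symm) = (fξ).fromNormalization.app (X.basicOpen f₀) ≫
          (fξ).normalization.presheaf.map (homOfLE (le_of_eq hpre.symm)).op := rfl
    rw [happ, CommRingCat.hom_comp, RingHom.coe_comp] at hb
    have hiso : Function.Bijective ((fξ).normalization.presheaf.map
        (homOfLE (le_of_eq hpre.symm)).op).hom := by
      have : IsIso ((fξ).normalization.presheaf.map (homOfLE (le_of_eq hpre.symm)).op) := by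
        have : homOfLE (le_of_eq hpre.symm) = eqToHom hpre.symm := rfl
        rw [this]
        infer_instance
      exact ConcreteCategory.bijective_of_isIso _
    exact (Function.Bijective.of_comp_iff' hiso _).mp hb

end Dense

end Groth.Agent.Lib.Helper39.NormCok
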